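import Groth.Prelude.Def_OmegaPn
import Groth.Agent.IdealComap.Basic

/-!
The symmetry of infinitesimal neighbourhoods of the diagonal.
-/

set_option autoImplicit false
set_option backward.isDefEq.respectTransparency.types false
universe u
open CategoryTheory CategoryTheory.Limits AlgebraicGeometry TopologicalSpace

namespace Groth.Agent.NbhdSymm

theorem comap_pow {X Y : Scheme.{u}} (f : X ⟶ Y) (I : Y.IdealSheafData) (n : ℕ) :
    (I ^ n).comap f = I.comap f ^ n := by
  let h𝒰 := X.isBasis_affineOpens.isOpenCover_mem_and_le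
    (Y.isBasis_affineOpens.isOpenCover.comap f.base.hom)
  refine Scheme.IdealSheafData.ext_of_iSup_eq_top (fun U ↦ ⟨_, by exact U.2.1⟩) h𝒰 ?_
  rintro ⟨⟨U, ⟨V, hV⟩⟩, hU, hUV : U ≤ f ⁻¹ᵁ V⟩
  simp only [Scheme.IdealSheafData.ideal_pow, Pi.pow_apply]
  rw [IdealComap.ideal_comap (I ^ n) f ⟨U, hU⟩ ⟨V, hV⟩ hUV, IdealComap.ideal_comap I f ⟨U, hU⟩ ⟨V, hV⟩ hUV,
    Scheme.IdealSheafData.ideal_pow, Pi.pow_apply, Ideal.map_pow]

variable {X S : Scheme.{u}} (f : X ⟶ S)

theorem symm_le : (pullback.diagonal f).coborderRange ≤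
    (pullbackSymmetry f f).hom ⁻¹ᵁ (pullback.diagonal f).coborderRange := by
  have hd : pullback.diagonal f ≫ (pullbackSymmetry f f).hom = pullback.diagonal f := by
    apply pullback.hom_ext <;> simp
  intro a ha
  have h := coborder_preimage ((pullbackSymmetry f f).hom.homeomorph.isOpenMap)
    (pullbackSymmetry f f).hom.continuous (Set.range (pullback.diagonal f))
  have e : (pullbackSymmetry f f).hom ⁻¹' Set.range (pullback.diagonal f) = Set.range (pullback.diagonal f) := by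
    ext b
    constructor
    · rintro ⟨x, hx⟩
      refine ⟨x, ((pullbackSymmetry f f).hom.homeomorph.injective ?_)⟩
      show (pullbackSymmetry f f).hom (pullback.diagonal f x) = (pullbackSymmetry f f).hom b
      rw [← Scheme.Hom.comp_apply, hd, hx]
    · rintro ⟨x, rfl⟩
      exact ⟨x, by rw [← Scheme.Hom.comp_apply, hd]⟩
  replace h : coborder ((pullbackSymmetry f f).hom ⁻¹' Set.range (pullback.diagonal f)) =
      (pullbackSymmetry f f).hom ⁻¹' coborder (Set.range (pullback.diagonal f)) := h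
  rw [e] at h
  exact h.le ha

theorem result (n : ℕ) :
    ∃ σ : PrinPart.nbhd f n ⟶ PrinPart.nbhd f n,
      σ ≫ PrinPart.nbhdι f n = PrinPart.nbhdι f n ≫ (pullbackSymmetry f f).hom ∧
      σ ≫ σ = 𝟙 (PrinPart.nbhd f n) ∧
      σ ≫ PrinPart.pr1 f n = PrinPart.pr2 f n ∧ σ ≫ PrinPart.pr2 f n = PrinPart.pr1 f n ∧
      PrinPart.toNbhd f n ≫ σ = PrinPart.toNbhd f n := by
  set W := (pullback.diagonal f).coborderRange
  let i := PrinPart.diagCl f
  let s : (W : Scheme.{u}) ⟶ W := (pullbackSymmetry f f).hom.resLE W W (symm_le f)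
  have hs : s ≫ W.ι = W.ι ≫ (pullbackSymmetry f f).hom := Scheme.Hom.resLE_comp_ι _ _
  have hi : i ≫ s = i := by
    rw [← cancel_mono W.ι, Category.assoc, hs, Scheme.Hom.liftCoborder_ι_assoc, Scheme.Hom.liftCoborder_ι]
    apply pullback.hom_ext <;> simp
  have hI : i.ker.comap s ≤ i.ker := by
    rw [← Scheme.IdealSheafData.le_map_iff_comap_le, Scheme.IdealSheafData.map_ker i s, hi]
  have hle : (PrinPart.infNbhdι i n).ker ≤ (PrinPart.infNbhdι i n ≫ s).ker := by
    unfold PrinPart.infNbhdι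
    rw [Scheme.IdealSheafData.ker_subschemeι, ← Scheme.IdealSheafData.map, Scheme.IdealSheafData.le_map_iff_comap_le, comap_pow]
    exact pow_le_pow_left' hI _
  haveI : IsClosedImmersion (PrinPart.infNbhdι i n) := by unfold PrinPart.infNbhdι; infer_instance
  haveI : Mono (PrinPart.nbhdι f n) := by unfold PrinPart.nbhdι; infer_instance
  let σ : PrinPart.nbhd f n ⟶ PrinPart.nbhd f n :=
    IsClosedImmersion.lift (PrinPart.infNbhdι i n) (PrinPart.infNbhdι i n ≫ s) hle
  have h0 : σ ≫ PrinPart.infNbhdι i n = PrinPart.infNbhdι i n ≫ s := IsClosedImmersion.lift_fac _ _ _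
  have hσ : σ ≫ PrinPart.nbhdι f n = PrinPart.nbhdι f n ≫ (pullbackSymmetry f f).hom := by
    show σ ≫ PrinPart.infNbhdι i n ≫ W.ι = (PrinPart.infNbhdι i n ≫ W.ι) ≫ _
    rw [reassoc_of% h0, hs, Category.assoc]
  refine ⟨σ, hσ, ?_, ?_, ?_, ?_⟩
  · rw [← cancel_mono (PrinPart.nbhdι f n), Category.assoc, hσ, reassoc_of% hσ]
    have hh : (pullbackSymmetry f f).hom ≫ (pullbackSymmetry f f).hom = 𝟙 _ := by
      apply pullback.hom_ext <;> simp
    rw [hh]; simp
  · rw [PrinPart.pr1, reassoc_of% hσ, pullbackSymmetry_hom_comp_fst]; rfl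
  · rw [PrinPart.pr2, reassoc_of% hσ, pullbackSymmetry_hom_comp_snd]; rfl
  · rw [← cancel_mono (PrinPart.nbhdι f n), Category.assoc, hσ, PrinPart.toNbhd_ι, PrinPart.toNbhd_ι_assoc]
    apply pullback.hom_ext <;> simp

end Groth.Agent.NbhdSymm
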